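import Groth.Agent.GrpField.SmoothPoint
import Groth.Agent.GrpField.FlatPoint
import Mathlib.AlgebraicGeometry.Noetherian
import Mathlib.AlgebraicGeometry.Morphisms.Preimmersion
import Mathlib.RingTheory.Flat.FaithfullyFlat.Algebra

/-!
# Smoothness of group schemes from reducedness of one local ring over a perfect field
-/

universe u

open CategoryTheory CategoryTheory.Limits MonoidalCategory CartesianMonoidalCategory
open AlgebraicGeometry TensorProduct

namespace Groth.Agent.GrpBasic

/-- A noetherian ring reduced at a prime is reduced near it. -/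
theorem exists_isReduced_away {A : Type u} [CommRing A] [IsNoetherianRing A] (p : Ideal A) [p.IsPrime]
    [_root_.IsReduced (Localization.AtPrime p)] :
    ∃ f ∉ p, _root_.IsReduced (Localization.Away f) := by
  classical
  obtain ⟨s, hs⟩ := IsNoetherian.noetherian (nilradical A)
  have h : ∀ a ∈ nilradical A, ∃ f ∉ p, f * a = 0 := by
    intro a ha
    obtain ⟨m, hm⟩ := (IsLocalization.map_eq_zero_iff p.primeCompl (Localization.AtPrime p) a).1
      ((mem_nilradical.1 ha).map (algebraMap A _)).eq_zero
    exact ⟨m, m.2, hm⟩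
  choose f hf hf0 using h
  let F : A := ∏ a ∈ s.attach, f a.1 (hs ▸ Submodule.subset_span a.2)
  have hF : ∀ a ∈ nilradical A, F * a = 0 := by
    intro a ha
    rw [← hs] at ha
    induction ha using Submodule.span_induction with
    | mem x hx =>
      obtain ⟨c, hc⟩ := Finset.dvd_prod_of_mem
        (fun a : {x // x ∈ s} => f a.1 (hs ▸ Submodule.subset_span a.2)) (Finset.mem_attach s ⟨x, hx⟩)
      rw [show F = f x (hs ▸ Submodule.subset_span hx) * c from hc,
        mul_comm (f x (hs ▸ Submodule.subset_span hx)) c, mul_assoc, hf0, mul_zero]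
    | zero => rw [mul_zero]
    | add x y _ _ hx hy => rw [mul_add, hx, hy, add_zero]
    | smul c x _ hx => rw [smul_eq_mul, mul_left_comm, hx, mul_zero]
  refine ⟨F, fun hFp => ?_, ?_⟩
  · obtain ⟨a, -, ha⟩ := (Ideal.IsPrime.prod_mem_iff (p := p)).1 hFp
    exact hf _ _ ha
  · refine ⟨fun z hz => ?_⟩
    obtain ⟨a, ⟨_, n, rfl⟩, rfl⟩ := IsLocalization.exists_mk'_eq (Submonoid.powers F) z
    rw [IsLocalization.mk'_eq_zero_iff]
    have h1 : IsNilpotent (algebraMap A (Localization.Away F) a) := by
      rw [← IsLocalization.mk'_spec (Localization.Away F) a (⟨F ^ n, n, rfl⟩ : Submonoid.powers F)]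
      exact (Commute.all _ _).isNilpotent_mul_right hz
    obtain ⟨m, hm⟩ := h1
    rw [← map_pow, IsLocalization.map_eq_zero_iff (Submonoid.powers F)] at hm
    obtain ⟨⟨_, r, rfl⟩, hr⟩ := hm
    have hn : F ^ r * a ∈ nilradical A := by
      rw [mem_nilradical]
      refine ⟨m + 1, ?_⟩
      rw [show (F ^ r * a) ^ (m + 1) = ((F ^ r) ^ m * a) * (F ^ r * a ^ m) by ring]
      exact (congrArg (((F ^ r) ^ m * a) * ·) hr).trans (mul_zero _)
    exact ⟨⟨F ^ (r + 1), r + 1, rfl⟩, by
      change F ^ (r + 1) * a = 0
      rw [pow_succ', mul_assoc]; exact hF _ hn⟩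

/-- A locally noetherian scheme reduced at a point is reduced near it. -/
theorem exists_isReduced_nhd {X : Scheme.{u}} [IsLocallyNoetherian X] (x : X)
    [_root_.IsReduced (X.presheaf.stalk x)] : ∃ U : X.Opens, x ∈ U ∧ IsReduced (U : Scheme.{u}) := by
  obtain ⟨U, hU, hxU, -⟩ := exists_isAffineOpen_mem_and_subset (show x ∈ (⊤ : X.Opens) from trivial)
  have : IsNoetherianRing Γ(X, U) := IsLocallyNoetherian.component_noetherian ⟨U, hU⟩
  let p := hU.primeIdealOf ⟨x, hxU⟩
  let := TopCat.Presheaf.algebra_section_stalk X.presheaf (⟨x, hxU⟩ : U)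
  have := hU.isLocalization_stalk ⟨x, hxU⟩
  have : _root_.IsReduced (Localization.AtPrime p.asIdeal) :=
    isReduced_of_injective _ (IsLocalization.algEquiv p.asIdeal.primeCompl
      (Localization.AtPrime p.asIdeal) (X.presheaf.stalk x)).injective
  obtain ⟨f, hf, hred⟩ := exists_isReduced_away p.asIdeal
  refine ⟨X.basicOpen f, ?_, ?_⟩
  · have : hU.fromSpec p ∈ X.basicOpen f := by
      rw [← Scheme.Hom.mem_preimage, hU.fromSpec_preimage_basicOpen]
      exact hf
    rwa [hU.fromSpec_primeIdealOf ⟨x, hxU⟩] at this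
  · have := hU.isLocalization_basicOpen f
    have : _root_.IsReduced Γ(X, X.basicOpen f) :=
      isReduced_of_injective _ (IsLocalization.algEquiv (Submonoid.powers f)
        Γ(X, X.basicOpen f) (Localization.Away f)).injective
    exact isReduced_of_isOpenImmersion (hU.basicOpen f).isoSpec.hom

/-- A group scheme over a perfect field which is reduced at one point is smooth. -/
theorem smooth_of_perfect_stalk {K : Type u} [Field K] [PerfectField K]
    (G : Over (Spec (CommRingCat.of K))) [GrpObj G] [LocallyOfFiniteType G.hom] (x : G.left)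
    [_root_.IsReduced (G.left.presheaf.stalk x)] : Smooth G.hom := by
  have : IsLocallyNoetherian G.left := LocallyOfFiniteType.isLocallyNoetherian G.hom
  have : LocallyOfFinitePresentation G.hom := inferInstance
  obtain ⟨U, hxU, hU⟩ := exists_isReduced_nhd x
  have : Nonempty (U : Scheme.{u}) := ⟨⟨x, hxU⟩⟩
  obtain ⟨u, hu⟩ := (U.ι ≫ G.hom).dense_smoothLocus_of_perfectField.nonempty
  rw [SetLike.mem_coe, ← Scheme.Hom.preimage_smoothLocus_eq] at hu
  exact GrpField.smooth_of_smoothLocus G ⟨U.ι u, hu⟩

/-- For a field extension `K/k`, if `K ⊗ₖ O_{X,x}` is reduced then so is the local ring of `X_K` at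
some point over `x`. -/
theorem exists_isReduced_stalk_pullback {k : Type u} [Field k] {X : Scheme.{u}}
    (f : X ⟶ Spec (CommRingCat.of k)) (K : Type u) [Field K] [Algebra k K] (x : X)
    [Algebra k (X.presheaf.stalk x)]
    (halg : Spec.map (CommRingCat.ofHom (algebraMap k (X.presheaf.stalk x))) = X.fromSpecStalk x ≫ f)
    (hred : _root_.IsReduced (K ⊗[k] X.presheaf.stalk x)) :
    ∃ y : ↥(pullback f (Spec.map (CommRingCat.ofHom (algebraMap k K)))),
      _root_.IsReduced ((pullback f (Spec.map (CommRingCat.ofHom (algebraMap k K)))).presheaf.stalk y) := by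
  let g := Spec.map (CommRingCat.ofHom (algebraMap k K))
  let ι := X.fromSpecStalk x
  let T := pullback ι (pullback.fst f g)
  have : IsReduced T := by
    have : _root_.IsReduced (X.presheaf.stalk x ⊗[k] K) :=
      isReduced_of_injective _ (Algebra.TensorProduct.comm k _ K).injective
    have : IsReduced (pullback (Spec.map (CommRingCat.ofHom (algebraMap k (X.presheaf.stalk x)))) g) :=
      isReduced_of_isOpenImmersion (pullbackSpecIso k (X.presheaf.stalk x) K).hom
    exact isReduced_of_isOpenImmersion
      ((pullbackRightPullbackFstIso f g ι).hom ≫ (pullback.congrHom halg.symm (rfl : g = g)).hom)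
  have : Flat ι := GrpField.flat_fromSpecStalk x
  let j : T ⟶ pullback f g := pullback.snd ι (pullback.fst f g)
  obtain ⟨z⟩ : Nonempty ↥(pullback (Spec.map (CommRingCat.ofHom (algebraMap k (X.presheaf.stalk x)))) g) := by
    obtain ⟨w, -⟩ := Scheme.Pullback.exists_preimage_pullback
      (f := Spec.map (CommRingCat.ofHom (algebraMap k (X.presheaf.stalk x)))) (g := g)
      (IsLocalRing.closedPoint (X.presheaf.stalk x)) (IsLocalRing.closedPoint K) (Subsingleton.elim _ _)
    exact ⟨w⟩
  let t : T := ((pullbackRightPullbackFstIso f g ι).hom ≫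
    (pullback.congrHom halg.symm (rfl : g = g)).hom).homeomorph.symm z
  refine ⟨j t, ?_⟩
  have hfl : (j.stalkMap t).hom.Flat := Flat.stalkMap j t
  have hs : Function.Surjective (j.stalkMap t).hom := j.stalkMap_surjective t
  let := (j.stalkMap t).hom.toAlgebra
  have : Module.Flat ((pullback f g).presheaf.stalk (j t)) (T.presheaf.stalk t) := hfl
  have : IsLocalHom (algebraMap ((pullback f g).presheaf.stalk (j t)) (T.presheaf.stalk t)) :=
    inferInstanceAs (IsLocalHom (j.stalkMap t).hom)
  have := Module.FaithfullyFlat.of_flat_of_isLocalHom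
    (A := (pullback f g).presheaf.stalk (j t)) (B := T.presheaf.stalk t)
  exact isReduced_of_injective _ (FaithfulSMul.algebraMap_injective
    ((pullback f g).presheaf.stalk (j t)) (T.presheaf.stalk t))

end Groth.Agent.GrpBasic
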