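import Mathlib.AlgebraicGeometry.Group.Smooth
import Mathlib.AlgebraicGeometry.Morphisms.SmoothFiber
import Mathlib.AlgebraicGeometry.Morphisms.UniversallyOpen
import Mathlib.CategoryTheory.Monoidal.Cartesian.Grp
import Mathlib.CategoryTheory.Monoidal.Cartesian.Over

universe u
open CategoryTheory CategoryTheory.Limits MonoidalCategory CartesianMonoidalCategory MonObj GrpObj AlgebraicGeometry

namespace Groth.Agent.GrpBasic

variable {C : Type*} [Category C] [CartesianMonoidalCategory C]

/-- The shear automorphism `(g, h) ↦ (g * h, h)`. -/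
@[simps]
def shear (G : C) [GrpObj G] : G ⊗ G ≅ G ⊗ G where
  hom := lift (fst G G * snd G G) (snd G G)
  inv := lift (fst G G * (snd G G)⁻¹) (snd G G)
  hom_inv_id := by
    ext <;> simp [MonObj.comp_mul, GrpObj.comp_inv, mul_assoc]
  inv_hom_id := by
    ext <;> simp [MonObj.comp_mul, GrpObj.comp_inv, mul_assoc]

lemma shear_hom_fst (G : C) [GrpObj G] : (shear G).hom ≫ fst G G = μ[G] := by
  simp [Hom.mul_def]

variable {S : Scheme.{u}}

/-- `μ` is obtained from the projection by an automorphism of the source. -/
lemma mul_left_eq (G : Over S) [GrpObj G] :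
    μ[G].left = (shear G).hom.left ≫ (fst G G).left := by
  rw [← Over.comp_left, shear_hom_fst]

instance universallyOpen_mul (G : Over S) [GrpObj G] [UniversallyOpen G.hom] :
    UniversallyOpen μ[G].left := by
  rw [mul_left_eq]
  have : UniversallyOpen (fst G G).left := inferInstanceAs (UniversallyOpen (pullback.fst G.hom G.hom))
  infer_instance

end Groth.Agent.GrpBasic
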