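import Mathlib.AlgebraicGeometry.Group.Smooth
import Mathlib.RingTheory.Nilpotent.GeometricallyReduced
import Mathlib.RingTheory.Unramified.Field
import Mathlib.FieldTheory.Perfect
import Mathlib.RingTheory.TensorProduct.Free

universe u
open CategoryTheory CategoryTheory.Limits MonoidalCategory CartesianMonoidalCategory MonObj GrpObj
open AlgebraicGeometry TensorProduct

namespace Groth.Agent.GrpBasic

/-- A reduced algebra tensored with a finite separable field extension stays reduced. -/
lemma isReduced_tensor_of_finite_separable (k A L : Type u) [Field k] [CommRing A] [Algebra k A]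
    [IsReduced A] [Field L] [Algebra k L] [Module.Finite k L] [Algebra.IsSeparable k L] :
    IsReduced (A ⊗[k] L) := by
  have := Algebra.FormallyUnramified.of_isSeparable k L
  let b := Module.finBasis k L
  constructor
  intro x hx
  apply (Algebra.TensorProduct.basis A b).repr.injective
  rw [map_zero]
  ext i
  rw [Finsupp.zero_apply]
  refine (?_ : IsNilpotent _).eq_zero
  rw [nilpotent_iff_mem_prime]
  intro p hp
  have := Algebra.FormallyUnramified.isReduced_of_field p.ResidueField (p.ResidueField ⊗[k] L)
  let φ := Algebra.TensorProduct.map (IsScalarTower.toAlgHom k A p.ResidueField) (AlgHom.id k L)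
  have hz : φ x = 0 := (hx.map φ).eq_zero
  have key : ∀ y : A ⊗[k] L, (Algebra.TensorProduct.basis p.ResidueField b).repr (φ y) i =
      algebraMap A p.ResidueField ((Algebra.TensorProduct.basis A b).repr y i) := by
    intro y
    induction y using TensorProduct.induction_on with
    | zero => simp
    | tmul a l => simp [φ, Algebra.TensorProduct.basis_repr_tmul, Finsupp.smul_apply, map_mul,
        Algebra.smul_def, IsScalarTower.algebraMap_apply k A p.ResidueField]
    | add y z hy hz => simp [hy, hz]
  have h := key x
  rw [hz, map_zero, Finsupp.zero_apply, eq_comm, ← RingHom.mem_ker, Ideal.ker_algebraMap_residueField] at h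
  exact h

lemma isReduced_tensor_algClosure (k A : Type u) [Field k] [PerfectField k] [CommRing A]
    [Algebra k A] [IsReduced A] : IsReduced (A ⊗[k] AlgebraicClosure k) := by
  apply IsReduced.tensorProduct_of_flat_of_forall_fg
  intro B hB
  have : Algebra.FiniteType k B := Subalgebra.fg_iff_finiteType _ |>.mp hB
  have : Algebra.IsIntegral k B := Algebra.IsIntegral.of_injective B.val Subtype.val_injective
  have : Module.Finite k B := Algebra.IsIntegral.finite
  let : Field B := (isField_of_isIntegral_of_isField' (Field.toIsField k)).toField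
  have : Algebra.IsAlgebraic k B := Algebra.IsAlgebraic.of_finite k B
  exact isReduced_tensor_of_finite_separable k A B

variable (K : Type u) [Field K]

lemma isReduced_pullback_algClosure_Spec [PerfectField K] (A : CommRingCat.{u}) [_root_.IsReduced A]
    (φ : CommRingCat.of K ⟶ A) : IsReduced (pullback (Spec.map φ)
      (Spec.map (CommRingCat.ofHom (algebraMap K (AlgebraicClosure K))))) := by
  let : Algebra K A := φ.hom.toAlgebra
  have := isReduced_tensor_algClosure K A
  exact isReduced_of_isOpenImmersion (pullbackSpecIso K A (AlgebraicClosure K)).hom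

lemma isReduced_pullback_algClosure_affine [PerfectField K] (U : Scheme.{u}) [IsAffine U]
    [IsReduced U] (g : U ⟶ Spec (.of K)) : IsReduced (pullback g
      (Spec.map (CommRingCat.ofHom (algebraMap K (AlgebraicClosure K))))) := by
  obtain ⟨φ, hφ⟩ := Spec.map_surjective (U.isoSpec.inv ≫ g)
  have := isReduced_pullback_algClosure_Spec K _ φ
  have hg : g ≫ 𝟙 _ = U.isoSpec.hom ≫ Spec.map φ := by simp [hφ]
  exact isReduced_of_isOpenImmersion (pullback.map g
    (Spec.map (CommRingCat.ofHom (algebraMap K (AlgebraicClosure K)))) (Spec.map φ)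
      (Spec.map (CommRingCat.ofHom (algebraMap K (AlgebraicClosure K))))
      U.isoSpec.hom (𝟙 _) (𝟙 _) hg (by simp))

lemma isReduced_pullback_algClosure [PerfectField K] {X : Scheme.{u}}
    (f : X ⟶ Spec (.of K)) [IsReduced X] :
    IsReduced (pullback f (Spec.map (CommRingCat.ofHom (algebraMap K (AlgebraicClosure K))))) := by
  apply +allowSynthFailures @IsReduced.of_openCover
    (𝒰 := Scheme.Pullback.openCoverOfLeft X.affineCover f _)
  intro i
  have : IsReduced (X.affineCover.X i) := isReduced_of_isOpenImmersion (X.affineCover.f i)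
  exact isReduced_pullback_algClosure_affine K (X.affineCover.X i) _

variable {K}

open MonObj MonoidalCategory CartesianMonoidalCategory in
/-- The algebraically closed case of `smooth_of_grpObj` (the Mathlib one is not exported). -/
lemma smooth_of_grpObj_algClosed {G : Scheme.{u}} (f : G ⟶ Spec (.of K))
    [LocallyOfFiniteType f] [GrpObj (Over.mk f)] [IsReduced G] [IsAlgClosed K] : Smooth f := by
  have := LocallyOfFiniteType.jacobsonSpace f
  have : Nonempty G := ⟨η[Over.mk f].left (IsLocalRing.closedPoint K)⟩
  rw [← Scheme.Hom.smoothLocus_eq_top_iff, ← TopologicalSpace.Opens.coe_eq_univ,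
    ← not_ne_iff, ← Set.nonempty_compl]
  intro H
  obtain ⟨x, hx, hxc⟩ :=
    nonempty_inter_closedPoints H f.smoothLocus.2.isClosed_compl.isLocallyClosed
  obtain ⟨y, hy : y ∈ f.smoothLocus, hyc⟩ := nonempty_inter_closedPoints
    f.dense_smoothLocus_of_perfectField.nonempty f.smoothLocus.2.isLocallyClosed
  let x' : 𝟙_ _ ⟶ Over.mk f := Over.homMk _ ((pointEquivClosedPoint f).symm ⟨x, hxc⟩).2
  let y' : 𝟙_ _ ⟶ Over.mk f := Over.homMk _ ((pointEquivClosedPoint f).symm ⟨y, hyc⟩).2
  let α := (GrpObj.mulRight (A := Over.mk f) x').symm ≪≫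
    (GrpObj.mulRight (A := Over.mk f) y')
  have hα : x' ≫ α.hom = y' := by
    dsimp only [Iso.trans_hom, Iso.symm_hom, α]
    rw [← Category.assoc, ← Iso.eq_comp_inv]
    simp [comp_lift_assoc]
  have hα' : α.hom.left x = y := by
    simpa [x', y', pointEquivClosedPoint] using congr(($hα).left (IsLocalRing.closedPoint K))
  rw! [← hα', ← α.hom.left.mem_preimage, Scheme.Hom.preimage_smoothLocus_eq,
    show α.hom.left ≫ f = f from α.hom.w] at hy
  exact hx hy

theorem smooth_of_grpObj_perfect [PerfectField K] {G : Scheme.{u}} (f : G ⟶ Spec (.of K))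
    [LocallyOfFiniteType f] [GrpObj (Over.mk f)] [IsReduced G] : Smooth f := by
  apply MorphismProperty.of_pullback_snd_of_descendsAlong
    (Q := @Surjective ⊓ @Flat ⊓ @QuasiCompact)
    (g := Spec.map (CommRingCat.ofHom (algebraMap K (AlgebraicClosure K))))
  · exact ⟨⟨inferInstance, inferInstance⟩, inferInstance⟩
  · let : GrpObj (Over.mk (Limits.pullback.snd f
      (Spec.map (CommRingCat.ofHom (algebraMap K (AlgebraicClosure K)))))) :=
      Over.grpObjMkPullbackSnd
    have := isReduced_pullback_algClosure K f
    exact smooth_of_grpObj_algClosed _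

end Groth.Agent.GrpBasic
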