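import Groth.Agent.GrpBasic.CartierRing
import Groth.Agent.GrpBasic.Perfect
import Mathlib.RingTheory.DualNumber
import Mathlib.AlgebraicGeometry.Morphisms.FiniteType

/-!
# Cartier: group schemes locally of finite type over a field of characteristic zero are smooth
-/

universe u
open CategoryTheory CategoryTheory.Limits MonoidalCategory CartesianMonoidalCategory MonObj GrpObj
open AlgebraicGeometry

namespace Groth.Agent.Cartier

/-- Factor a morphism from the spectrum of a local ring through the local ring of the image of the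
closed point. -/
lemma exists_Spec_map_fromSpecStalk {X : Scheme.{u}} {A : CommRingCat.{u}} [IsLocalRing A]
    (g : Spec A ⟶ X) {x : X} (hx : g (IsLocalRing.closedPoint A) = x) :
    ∃ φ : X.presheaf.stalk x ⟶ A, Spec.map φ ≫ X.fromSpecStalk x = g := by
  subst hx
  exact ⟨_, Scheme.Spec_stalkClosedPointTo_fromSpecStalk g⟩

lemma isLocalRing_dualNumber (O : Type u) [CommRing O] [IsLocalRing O] :
    IsLocalRing (DualNumber O) := by
  refine .of_isUnit_or_isUnit_one_sub_self fun a => ?_
  rw [TrivSqZeroExt.isUnit_iff_isUnit_fst, TrivSqZeroExt.isUnit_iff_isUnit_fst,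
    TrivSqZeroExt.fst_sub, TrivSqZeroExt.fst_one]
  exact IsLocalRing.isUnit_or_isUnit_one_sub_self _

/-- Coefficientwise application of a ring homomorphism to dual numbers. -/
def dualMap {R S : Type u} [CommRing R] [CommRing S] (φ : R →+* S) :
    DualNumber R →+* DualNumber S where
  toFun x := (φ x.fst, φ x.snd)
  map_one' := TrivSqZeroExt.ext (map_one φ) (map_zero φ)
  map_mul' x y := TrivSqZeroExt.ext (map_mul φ _ _) (by
    change φ (x * y).snd = φ x.fst • φ y.snd + MulOpposite.op (φ y.fst) • φ x.snd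
    simp [TrivSqZeroExt.snd_mul])
  map_zero' := TrivSqZeroExt.ext (map_zero φ) (map_zero φ)
  map_add' x y := TrivSqZeroExt.ext (map_add φ _ _) (map_add φ _ _)

@[simp] lemma fst_dualMap {R S : Type u} [CommRing R] [CommRing S] (φ : R →+* S)
    (x : DualNumber R) : (dualMap φ x).fst = φ x.fst := rfl

@[simp] lemma snd_dualMap {R S : Type u} [CommRing R] [CommRing S] (φ : R →+* S)
    (x : DualNumber R) : (dualMap φ x).snd = φ x.snd := rfl

variable {K : Type u} [Field K] {G : Scheme.{u}} (f : G ⟶ Spec (.of K))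
  [GrpObj (Over.mk f)]

/-- The unit point. -/
noncomputable abbrev unitPt : G := η[Over.mk f].left (IsLocalRing.closedPoint K)

set_option backward.isDefEq.respectTransparency false in
theorem isReduced_stalk_unitPt [CharZero K] [LocallyOfFiniteType f] :
    _root_.IsReduced (G.presheaf.stalk (unitPt f)) := by
  have : IsLocallyNoetherian G := LocallyOfFiniteType.isLocallyNoetherian f
  set x₀ := unitPt f
  set O : CommRingCat.{u} := G.presheaf.stalk x₀
  set st₀ := G.fromSpecStalk x₀
  let e : Spec (.of K) ⟶ G := η[Over.mk f].left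
  have he : e ≫ f = 𝟙 _ := by simpa [e] using Over.w η[Over.mk f]
  obtain ⟨εc, hεc⟩ : ∃ φ : O ⟶ .of K, Spec.map φ ≫ st₀ = e := exists_Spec_map_fromSpecStalk e rfl
  obtain ⟨ic, hic⟩ : ∃ φ : CommRingCat.of K ⟶ O, Spec.map φ = st₀ ≫ f := Spec.map_surjective _
  have hεi : ic ≫ εc = 𝟙 _ := Spec.map_injective (by
    rw [Spec.map_comp, hic, reassoc_of% hεc, he, Spec.map_id])
  have hi : ∀ c, εc.hom (ic.hom c) = c := fun c => congrArg (fun φ => φ.hom c) hεi
  have hker : RingHom.ker εc.hom = IsLocalRing.maximalIdeal O :=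
    IsLocalRing.eq_maximalIdeal (RingHom.ker_isMaximal_of_surjective _ fun c => ⟨_, hi c⟩)
  refine isReduced εc.hom hker ic.hom hi fun δ hδ hδi => ?_
  -- the tangent vector as a point with values in dual numbers
  let φδ : O ⟶ .of (DualNumber K) := CommRingCat.ofHom
    { toFun := fun a => (εc.hom a, δ a)
      map_one' := TrivSqZeroExt.ext (map_one εc.hom) (by
        change δ 1 = 0
        rw [← map_one ic.hom, hδi])
      map_mul' := fun a b => TrivSqZeroExt.ext (map_mul εc.hom a b) (by
        change δ (a * b) = εc.hom a • δ b + MulOpposite.op (εc.hom b) • δ a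
        rw [hδ a b, op_smul_eq_smul, smul_eq_mul, smul_eq_mul])
      map_zero' := TrivSqZeroExt.ext (map_zero εc.hom) (map_zero δ)
      map_add' := fun a b => TrivSqZeroExt.ext (map_add εc.hom a b) (map_add δ a b) }
  let inlK : CommRingCat.of K ⟶ .of (DualNumber K) :=
    CommRingCat.ofHom (TrivSqZeroExt.inlHom K K)
  let A : CommRingCat.{u} := .of (DualNumber O)
  have : IsLocalRing A := isLocalRing_dualNumber O
  let inlO : O ⟶ A := CommRingCat.ofHom (TrivSqZeroExt.inlHom O O)
  let fstO : A ⟶ O := CommRingCat.ofHom (TrivSqZeroExt.fstHom ℤ O O).toRingHom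
  let fstK : CommRingCat.of (DualNumber K) ⟶ .of K :=
    CommRingCat.ofHom (TrivSqZeroExt.fstHom ℤ K K).toRingHom
  let j : CommRingCat.of (DualNumber K) ⟶ A := CommRingCat.ofHom (dualMap ic.hom)
  let π : A ⟶ CommRingCat.of (DualNumber K) := CommRingCat.ofHom (dualMap εc.hom)
  have hφi : ic ≫ φδ = inlK := by
    ext c : 2
    exact TrivSqZeroExt.ext (hi c) (hδi c)
  have hinl : inlK ≫ j = ic ≫ inlO := by
    ext c : 2
    exact TrivSqZeroExt.ext rfl (map_zero _)
  have hinlfst : inlO ≫ fstO = 𝟙 _ := rfl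
  have hjfst : j ≫ fstO = fstK ≫ ic := rfl
  have hφfst : φδ ≫ fstK = εc := rfl
  have hinlπ : inlO ≫ π = εc ≫ inlK := by
    ext c : 2
    exact TrivSqZeroExt.ext rfl (map_zero _)
  have hjπ : j ≫ π = 𝟙 _ :=
    CommRingCat.hom_ext (RingHom.ext fun c => TrivSqZeroExt.ext (hi c.fst) (hi c.snd))
  let X : Over (Spec (CommRingCat.of K)) := Over.mk (Spec.map (ic ≫ inlO))
  have hst₀ : st₀ ≫ f = Spec.map ic := hic.symm
  let P₁ : X ⟶ Over.mk f := Over.homMk (Spec.map inlO ≫ st₀) (by simp [X, hst₀])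
  let P₂ : X ⟶ Over.mk f := Over.homMk (Spec.map j ≫ Spec.map φδ ≫ st₀) (by
    simp only [Category.assoc, Over.mk_hom, X, hst₀, ← Spec.map_comp]
    rw [reassoc_of% hφi, hinl])
  let z : Over.mk (st₀ ≫ f) ⟶ X := Over.homMk (Spec.map fstO) (by
    simp only [X, Over.mk_hom, hst₀, ← Spec.map_comp, Category.assoc]
    rw [hinlfst, Category.comp_id])
  let w : Over.mk (Spec.map inlK) ⟶ X := Over.homMk (Spec.map π) (by
    simp only [X, Over.mk_hom, ← Spec.map_comp, Category.assoc]
    rw [hinlπ, reassoc_of% hεi])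
  let Θ : X ⟶ Over.mk f := P₁ * P₂
  have hz : (z ≫ Θ).left = st₀ := by
    have h1 : z ≫ P₂ = 1 := by
      ext1
      simp only [Hom.one_def, Over.comp_left, Over.toUnit_left, Over.mk_hom, z, P₂, Over.homMk_left,
        Category.assoc]
      change Spec.map fstO ≫ Spec.map j ≫ Spec.map φδ ≫ st₀ = (st₀ ≫ f) ≫ e
      rw [← Spec.map_comp_assoc, hjfst, Spec.map_comp_assoc, ← Spec.map_comp_assoc φδ, hφfst,
        hεc, ← hst₀]
    rw [show z ≫ Θ = (z ≫ P₁) * (z ≫ P₂) from MonObj.comp_mul _ _ _, h1, _root_.mul_one]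
    simp only [Over.comp_left, z, P₁, Over.homMk_left]
    rw [← Spec.map_comp_assoc, hinlfst, Spec.map_id, Category.id_comp]
  have hw : (w ≫ Θ).left = Spec.map φδ ≫ st₀ := by
    have h1 : w ≫ P₁ = 1 := by
      ext1
      simp only [Hom.one_def, Over.comp_left, Over.toUnit_left, Over.mk_hom, w, P₁, Over.homMk_left,
        Category.assoc]
      change Spec.map π ≫ Spec.map inlO ≫ st₀ = Spec.map inlK ≫ e
      rw [← Spec.map_comp_assoc, hinlπ, Spec.map_comp_assoc, hεc]
    rw [show w ≫ Θ = (w ≫ P₁) * (w ≫ P₂) from MonObj.comp_mul _ _ _, h1, _root_.one_mul]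
    simp only [Over.comp_left, w, P₂, Over.homMk_left]
    rw [← Spec.map_comp_assoc, hjπ, Spec.map_id, Category.id_comp]
  -- `Θ` sends the closed point to the unit point
  have hpt : Θ.left (IsLocalRing.closedPoint A) = x₀ := by
    have : IsLocalHom fstO.hom :=
      ⟨fun a ha => TrivSqZeroExt.isUnit_iff_isUnit_fst.2 ha⟩
    have h1 := congrArg (fun g : Spec O ⟶ G => g (IsLocalRing.closedPoint O)) hz
    simp only [Over.comp_left, z, Over.homMk_left, Scheme.Hom.comp_apply] at h1
    rw [← Spec_closedPoint (f := fstO)]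
    exact h1.trans Scheme.fromSpecStalk_closedPoint
  obtain ⟨ψ, hψ⟩ : ∃ φ : O ⟶ A, Spec.map φ ≫ st₀ = Θ.left :=
    exists_Spec_map_fromSpecStalk Θ.left hpt
  have h1 : ψ ≫ fstO = 𝟙 _ := Spec.map_injective ((cancel_mono st₀).1 (by
    rw [Spec.map_comp, Category.assoc, hψ, Spec.map_id, Category.id_comp]
    simpa [z] using hz))
  have h2 : ψ ≫ π = φδ := Spec.map_injective ((cancel_mono st₀).1 (by
    rw [Spec.map_comp, Category.assoc, hψ]
    simpa [w] using hw))
  have hfst : ∀ a, (ψ.hom a).fst = a := fun a => congrArg (fun φ => φ.hom a) h1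
  refine ⟨Derivation.mk'
    (AddMonoidHom.toIntLinearMap
      (AddMonoidHom.mk' (fun a => (ψ.hom a).snd) fun a b => by rw [map_add]; rfl))
    fun a b => ?_, fun a => ?_⟩
  · change (ψ.hom (a * b)).snd = a • (ψ.hom b).snd + b • (ψ.hom a).snd
    rw [map_mul, TrivSqZeroExt.snd_mul, hfst, hfst, op_smul_eq_smul]
  · exact congrArg TrivSqZeroExt.snd (congrArg (fun φ => φ.hom a) h2)

/-- Over an algebraically closed field of characteristic zero, group schemes locally of finite
type are reduced. -/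
theorem isReduced_algClosed [IsAlgClosed K] [CharZero K] [LocallyOfFiniteType f] :
    IsReduced G := by
  have := LocallyOfFiniteType.jacobsonSpace f
  have hred := isReduced_stalk_unitPt f
  have hclosed : ∀ x ∈ closedPoints G, _root_.IsReduced (G.presheaf.stalk x) := by
    intro x hx
    let x' : 𝟙_ _ ⟶ Over.mk f := Over.homMk _ ((pointEquivClosedPoint f).symm ⟨x, hx⟩).2
    let α := GrpObj.mulRight (A := Over.mk f) x'
    have hα : η[Over.mk f] ≫ α.hom = x' := by
      have h1 : η[Over.mk f] = (1 : 𝟙_ _ ⟶ Over.mk f) := by simp [Hom.one_def]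
      simp [α, comp_lift_assoc]
      rw [← Hom.mul_def, h1, _root_.one_mul]
    have hα' : α.hom.left (unitPt f) = x := by
      have h := congr(($hα).left (IsLocalRing.closedPoint K))
      exact h.trans (pointOfClosedPoint_apply f x hx _)
    have : IsIso α.hom.left := inferInstanceAs (IsIso ((Over.forget _).map α.hom))
    rw [← hα']
    have : _root_.IsReduced ((Over.mk f).left.presheaf.stalk (unitPt f)) := hred
    exact isReduced_of_injective (α.hom.left.stalkMap (unitPt f)).hom
      (ConcreteCategory.bijective_of_isIso (α.hom.left.stalkMap (unitPt f))).1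
  refine ⟨fun U => ⟨fun s hs => ?_⟩⟩
  by_contra hne
  -- the set of points where the germ is non zero contains a closed point
  let Z : Set G := {x | ∃ h : x ∈ U, G.presheaf.germ U x h s ≠ 0}
  have hZne : Z.Nonempty := by
    by_contra hZ
    refine hne (TopCat.Presheaf.section_ext G.sheaf U s 0 fun x hx => ?_)
    change G.presheaf.germ U x hx s = G.presheaf.germ U x hx 0
    rw [map_zero]
    by_contra h
    exact hZ ⟨x, hx, h⟩
  have hZc : IsClosed ((↑) ⁻¹' Z : Set (U : Set G)) := by
    rw [← isOpen_compl_iff, isOpen_iff_forall_mem_open]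
    intro ⟨x, hx⟩ hxZ
    have h0 : G.presheaf.germ U x hx s = G.presheaf.germ U x hx 0 := by
      rw [map_zero]
      by_contra h
      exact hxZ ⟨hx, h⟩
    obtain ⟨V, hxV, i₁, i₂, heq⟩ := G.presheaf.germ_eq x hx hx _ _ h0
    refine ⟨Subtype.val ⁻¹' (V : Set G), ?_, V.2.preimage continuous_subtype_val, show x ∈ V from hxV⟩
    rintro ⟨y, hy⟩ (hyV : y ∈ V) ⟨_, hne'⟩
    apply hne'
    rw [← G.presheaf.germ_res_apply i₁ y hyV, heq, map_zero, map_zero]
  have hZl : IsLocallyClosed Z := by
    obtain ⟨C, hC, hCZ⟩ := isClosed_induced_iff.1 hZc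
    refine ⟨(U : Set G), C, U.2, hC, ?_⟩
    ext x
    refine ⟨fun hx => ⟨hx.1, ?_⟩, fun ⟨hxU, hxC⟩ => ?_⟩
    · have : (⟨x, hx.1⟩ : (U : Set G)) ∈ (Subtype.val ⁻¹' Z) := hx
      rwa [← hCZ] at this
    · have : (⟨x, hxU⟩ : (U : Set G)) ∈ (Subtype.val ⁻¹' C) := hxC
      rwa [hCZ] at this
  obtain ⟨x, ⟨hxU, hx⟩, hxc⟩ := nonempty_inter_closedPoints hZne hZl
  have := hclosed x hxc
  exact hx (hs.map _).eq_zero

/-- **Cartier's theorem.** -/
theorem smooth_of_charZero [CharZero K] [LocallyOfFiniteType f] : Smooth f := by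
  apply MorphismProperty.of_pullback_snd_of_descendsAlong
    (Q := @Surjective ⊓ @Flat ⊓ @QuasiCompact)
    (g := Spec.map (CommRingCat.ofHom (algebraMap K (AlgebraicClosure K))))
  · exact ⟨⟨inferInstance, inferInstance⟩, inferInstance⟩
  · let : GrpObj (Over.mk (Limits.pullback.snd f
      (Spec.map (CommRingCat.ofHom (algebraMap K (AlgebraicClosure K)))))) :=
      Over.grpObjMkPullbackSnd
    have := isReduced_algClosed (Limits.pullback.snd f
      (Spec.map (CommRingCat.ofHom (algebraMap K (AlgebraicClosure K)))))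
    exact GrpBasic.smooth_of_grpObj_algClosed _

end Groth.Agent.Cartier
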