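import Groth.Agent.GrpBasic.Cartier
import Groth.Agent.GrpBasic.Perfect

/-!
# A group scheme reduced at the unit over an algebraically closed field is smooth
-/

universe u
open CategoryTheory CategoryTheory.Limits MonoidalCategory CartesianMonoidalCategory MonObj GrpObj
open AlgebraicGeometry

namespace Groth.Agent.GrpBasic
open Groth.Agent.Cartier

variable {K : Type u} [Field K] {G : Scheme.{u}} (f : G ⟶ Spec (.of K)) [GrpObj (Over.mk f)]

/-- Over an algebraically closed field, reduced at the unit implies reduced. -/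
theorem isReduced_of_stalk_unit [IsAlgClosed K] [LocallyOfFiniteType f]
    (hred : _root_.IsReduced (G.presheaf.stalk (unitPt f))) : IsReduced G := by
  have := LocallyOfFiniteType.jacobsonSpace f
  have hclosed : ∀ x ∈ closedPoints G, _root_.IsReduced (G.presheaf.stalk x) := by
    intro x hx
    let x' : 𝟙_ _ ⟶ Over.mk f := Over.homMk _ ((pointEquivClosedPoint f).symm ⟨x, hx⟩).2
    let α := GrpObj.mulRight (A := Over.mk f) x'
    have hα : η[Over.mk f] ≫ α.hom = x' := by
      have h1 : η[Over.mk f] = (1 : 𝟙_ _ ⟶ Over.mk f) := by simp [Hom.one_def]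
      simp [α, comp_lift_assoc]
      rw [← Hom.mul_def, h1, _root_.one_mul]
    have hα' : α.hom.left (unitPt f) = x := by
      have h := congr(($hα).left (IsLocalRing.closedPoint K))
      exact h.trans (pointOfClosedPoint_apply f x hx _)
    have : IsIso α.hom.left := inferInstanceAs (IsIso ((Over.forget _).map α.hom))
    rw [← hα']
    have : _root_.IsReduced ((Over.mk f).left.presheaf.stalk (unitPt f)) := hred
    exact isReduced_of_injective (α.hom.left.stalkMap (unitPt f)).hom
      (ConcreteCategory.bijective_of_isIso (α.hom.left.stalkMap (unitPt f))).1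
  refine ⟨fun U => ⟨fun s hs => ?_⟩⟩
  by_contra hne
  -- the set of points where the germ is non zero contains a closed point
  let Z : Set G := {x | ∃ h : x ∈ U, G.presheaf.germ U x h s ≠ 0}
  have hZne : Z.Nonempty := by
    by_contra hZ
    refine hne (TopCat.Presheaf.section_ext G.sheaf U s 0 fun x hx => ?_)
    change G.presheaf.germ U x hx s = G.presheaf.germ U x hx 0
    rw [map_zero]
    by_contra h
    exact hZ ⟨x, hx, h⟩
  have hZc : IsClosed ((↑) ⁻¹' Z : Set (U : Set G)) := by
    rw [← isOpen_compl_iff, isOpen_iff_forall_mem_open]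
    intro ⟨x, hx⟩ hxZ
    have h0 : G.presheaf.germ U x hx s = G.presheaf.germ U x hx 0 := by
      rw [map_zero]
      by_contra h
      exact hxZ ⟨hx, h⟩
    obtain ⟨V, hxV, i₁, i₂, heq⟩ := G.presheaf.germ_eq x hx hx _ _ h0
    refine ⟨Subtype.val ⁻¹' (V : Set G), ?_, V.2.preimage continuous_subtype_val, show x ∈ V from hxV⟩
    rintro ⟨y, hy⟩ (hyV : y ∈ V) ⟨_, hne'⟩
    apply hne'
    rw [← G.presheaf.germ_res_apply i₁ y hyV, heq, map_zero, map_zero]
  have hZl : IsLocallyClosed Z := by
    obtain ⟨C, hC, hCZ⟩ := isClosed_induced_iff.1 hZc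
    refine ⟨(U : Set G), C, U.2, hC, ?_⟩
    ext x
    refine ⟨fun hx => ⟨hx.1, ?_⟩, fun ⟨hxU, hxC⟩ => ?_⟩
    · have : (⟨x, hx.1⟩ : (U : Set G)) ∈ (Subtype.val ⁻¹' Z) := hx
      rwa [← hCZ] at this
    · have : (⟨x, hxU⟩ : (U : Set G)) ∈ (Subtype.val ⁻¹' C) := hxC
      rwa [hCZ] at this
  obtain ⟨x, ⟨hxU, hx⟩, hxc⟩ := nonempty_inter_closedPoints hZne hZl
  have := hclosed x hxc
  exact hx (hs.map _).eq_zero

/-- Over an algebraically closed field, reduced at the unit implies smooth. -/
theorem smooth_of_stalk_unit [IsAlgClosed K] [LocallyOfFiniteType f]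
    (hred : _root_.IsReduced (G.presheaf.stalk (unitPt f))) : Smooth f :=
  have := isReduced_of_stalk_unit f hred
  smooth_of_grpObj_algClosed f

end Groth.Agent.GrpBasic
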