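import Mathlib.RingTheory.Ideal.Cotangent
import Mathlib.RingTheory.Filtration
import Mathlib.RingTheory.Nilpotent.Basic
import Mathlib.RingTheory.MvPolynomial.Homogeneous
import Mathlib.Algebra.MvPolynomial.Funext
import Mathlib.RingTheory.Derivation.Basic
import Mathlib.Data.Nat.Choose.Basic
import Mathlib.Algebra.CharZero.Infinite

/-!
# A local ring with enough derivations in characteristic zero is reduced (Cartier)

`O` is a noetherian local ring with residue map `ε : O → k` onto a field of characteristic zero,
`i : k → O` a section of `ε`. If every tangent vector at the closed point extends to a derivation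
of `O`, then `O` is reduced.
-/

universe u v

namespace Groth.Agent.Cartier

open IsLocalRing

variable {O : Type u} [CommRing O] [IsLocalRing O] {k : Type v} [Field k] (ε : O →+* k)
  (hε : RingHom.ker ε = maximalIdeal O) (D : Derivation ℤ O O)

lemma deriv_mem_pow (n : ℕ) : ∀ {a : O}, a ∈ maximalIdeal O ^ (n + 1) → D a ∈ maximalIdeal O ^ n := by
  induction n with
  | zero => intros; simp
  | succ n ih =>
    intro a ha
    rw [pow_succ] at ha
    induction ha using Submodule.mul_induction_on' with
    | mem_mul_mem b hb c hc =>
      rw [Derivation.leibniz, smul_eq_mul, smul_eq_mul]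
      refine add_mem (Ideal.mul_mem_right _ _ hb) ?_
      rw [pow_succ']
      exact Ideal.mul_mem_mul hc (ih hb)
    | add b _ c _ hb hc => rw [map_add]; exact add_mem hb hc

include hε in
lemma iterate_vanish : ∀ (j : ℕ) {a : O}, a ∈ maximalIdeal O ^ (j + 1) → ε (D^[j] a) = 0
  | 0, a, ha => by
    rw [pow_one, ← hε] at ha
    simpa using ha
  | j + 1, a, ha => by
    rw [Function.iterate_succ_apply]
    exact iterate_vanish j (deriv_mem_pow D (j + 1) ha)

lemma iterate_map_add (j : ℕ) (a b : O) : D^[j] (a + b) = D^[j] a + D^[j] b := by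
  induction j generalizing a b with
  | zero => rfl
  | succ j ih => simp [Function.iterate_succ_apply, ih]

lemma iterate_map_sum {ι : Type*} (j : ℕ) (s : Finset ι) (f : ι → O) :
    D^[j] (∑ i ∈ s, f i) = ∑ i ∈ s, D^[j] (f i) := by
  induction j generalizing f with
  | zero => rfl
  | succ j ih => simp [Function.iterate_succ_apply, ih]

include hε in
/-- The leading term of the Taylor expansion along `D` is multiplicative. -/
lemma iterate_mul : ∀ (N p q : ℕ), p + q = N → ∀ {a b : O}, a ∈ maximalIdeal O ^ p →
    b ∈ maximalIdeal O ^ q →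
      ε (D^[N] (a * b)) = (N.choose p : k) * (ε (D^[p] a) * ε (D^[q] b))
  | 0, p, q, h, a, b, _, _ => by
    obtain ⟨rfl, rfl⟩ := Nat.add_eq_zero_iff.1 h
    simp
  | N + 1, p, q, h, a, b, ha, hb => by
    rw [Function.iterate_succ_apply, Derivation.leibniz, smul_eq_mul, smul_eq_mul,
      iterate_map_add, map_add]
    match p, q, h with
    | 0, q + 1, h =>
      obtain rfl : q = N := by omega
      have h2 : ε (D^[q] (b * D a)) = 0 := iterate_vanish ε hε D q (Ideal.mul_mem_right _ _ hb)
      rw [h2, iterate_mul q 0 q (by omega) (by simp) (deriv_mem_pow D q hb)]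
      simp
    | p + 1, 0, h =>
      obtain rfl : p = N := by omega
      have h2 : ε (D^[p] (a * D b)) = 0 := iterate_vanish ε hε D p (Ideal.mul_mem_right _ _ ha)
      rw [h2, iterate_mul p 0 p (by omega) hb (deriv_mem_pow D p ha)]
      simp [mul_comm]
    | p + 1, q + 1, h =>
      rw [iterate_mul N (p + 1) q (by omega) ha (deriv_mem_pow D q hb),
        iterate_mul N (q + 1) p (by omega) hb (deriv_mem_pow D p ha),
        Nat.choose_succ_succ N p,
        show N.choose p = N.choose (q + 1) from Nat.choose_symm_of_eq_add (by omega)]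
      simp only [← Function.iterate_succ_apply]
      push_cast
      ring

include hε in
lemma iterate_prod {ι : Type*} (x : ι → O) (hx : ∀ i, x i ∈ maximalIdeal O) (s : Multiset ι) :
    (s.map x).prod ∈ maximalIdeal O ^ s.card ∧
    ε (D^[s.card] (s.map x).prod) =
      (s.card.factorial : k) * (s.map fun i => ε (D (x i))).prod := by
  induction s using Multiset.induction with
  | empty => simp
  | cons i s ih =>
    refine ⟨?_, ?_⟩
    · rw [Multiset.map_cons, Multiset.prod_cons, Multiset.card_cons, pow_succ']
      exact Ideal.mul_mem_mul (hx i) ih.1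
    · rw [Multiset.map_cons, Multiset.prod_cons, Multiset.card_cons,
        iterate_mul ε hε D (s.card + 1) 1 s.card (by omega) (by simpa using hx i) ih.1,
        Nat.choose_one_right, ih.2, Multiset.map_cons, Multiset.prod_cons, Nat.factorial_succ]
      simp only [Function.iterate_one]
      push_cast
      ring

lemma prod_map_toMultiset {ι : Type*} [Fintype ι] {M : Type*} [CommMonoid M] (f : ι → M)
    (d : ι →₀ ℕ) : (d.toMultiset.map f).prod = ∏ j, f j ^ d j := by
  classical
  rw [Finset.prod_multiset_map_count]
  refine (Finset.prod_subset (Finset.subset_univ _) fun j _ hj => ?_).trans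
    (Finset.prod_congr rfl fun j _ => by simp)
  simp only [Multiset.mem_toFinset] at hj
  rw [Multiset.count_eq_zero.2 hj, pow_zero]

include hε in
/-- A noetherian local ring in characteristic zero all of whose tangent vectors extend to
derivations is reduced. -/
theorem isReduced [CharZero k] [IsNoetherianRing O] (i : k →+* O) (hi : ∀ c, ε (i c) = c)
    (hlift : ∀ δ : O →+ k, (∀ a b, δ (a * b) = ε a * δ b + ε b * δ a) → (∀ c, δ (i c) = 0) →
      ∃ D : Derivation ℤ O O, ∀ a, ε (D a) = δ a) : _root_.IsReduced O := by
  classical
  let ebar : ResidueField O →+* k :=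
    Ideal.Quotient.lift (maximalIdeal O) ε fun a ha => by rwa [← hε] at ha
  have hebar : ∀ a, ebar (residue O a) = ε a := fun a => rfl
  have hbij : Function.Bijective ebar :=
    ⟨ebar.injective, fun c => ⟨residue O (i c), (hebar _).trans (hi c)⟩⟩
  let e : ResidueField O ≃+* k := RingEquiv.ofBijective ebar hbij
  let b := Module.finBasis (ResidueField O) (CotangentSpace O)
  choose x hx using fun j => Ideal.toCotangent_surjective (maximalIdeal O) (b j)
  have hgen : Ideal.span (Set.range fun j => (x j : O)) = maximalIdeal O := by
    have h1 : Submodule.span O (Set.range x) = ⊤ := by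
      rw [← CotangentSpace.span_image_eq_top_iff, ← Set.range_comp,
        show (maximalIdeal O).toCotangent ∘ x = b from funext hx, b.span_eq]
    have h2 := congrArg (Submodule.map (Submodule.subtype (maximalIdeal O))) h1
    rw [Submodule.map_span, ← Set.range_comp, Submodule.map_subtype_top] at h2
    exact h2
  have hder : ∀ v : Fin (Module.finrank (ResidueField O) (CotangentSpace O)) → k,
      ∃ D : Derivation ℤ O O, ∀ j, ε (D (x j)) = v j := by
    intro v
    let ψ : CotangentSpace O →ₗ[ResidueField O] ResidueField O :=
      b.constr ℕ fun j => e.symm (v j)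
    have hmem : ∀ a, a - i (ε a) ∈ maximalIdeal O := fun a => by
      rw [← hε, RingHom.mem_ker, map_sub, hi, sub_self]
    let p : O →+ maximalIdeal O := AddMonoidHom.mk' (fun a => ⟨a - i (ε a), hmem a⟩) fun a c =>
      Subtype.ext (by simp only [map_add, Submodule.coe_add]; ring)
    let δ : O →+ k := ebar.toAddMonoidHom.comp
      (ψ.toAddMonoidHom.comp ((maximalIdeal O).toCotangent.toAddMonoidHom.comp p))
    have hδ : ∀ a c, δ (a * c) = ε a * δ c + ε c * δ a := by
      intro a c
      have hm : (a - i (ε a)) * (c - i (ε c)) ∈ maximalIdeal O :=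
        Ideal.mul_mem_right _ _ (hmem a)
      have : (⟨a * c - i (ε (a * c)), hmem _⟩ : maximalIdeal O) =
          i (ε a) • (⟨c - i (ε c), hmem c⟩ : maximalIdeal O) +
            i (ε c) • (⟨a - i (ε a), hmem a⟩ : maximalIdeal O) + ⟨_, hm⟩ :=
        Subtype.ext (by simp; ring)
      have h0 : (maximalIdeal O).toCotangent ⟨_, hm⟩ = 0 := by
        rw [Ideal.toCotangent_eq_zero, pow_two]
        exact Ideal.mul_mem_mul (hmem a) (hmem c)
      change ebar (ψ ((maximalIdeal O).toCotangent ⟨a * c - i (ε (a * c)), hmem _⟩)) = _
      have hs : ∀ (r : O) (z : CotangentSpace O), r • z = residue O r • z := fun r z =>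
        (algebraMap_smul (ResidueField O) r z).symm
      rw [this]
      simp only [map_add, h0, map_zero, add_zero, map_smul, hs, smul_eq_mul, map_mul, hebar, hi]
      rfl
    have hδi : ∀ c, δ (i c) = 0 := fun c => by
      have : (⟨i c - i (ε (i c)), hmem _⟩ : maximalIdeal O) = 0 := Subtype.ext (by simp [hi])
      change ebar (ψ ((maximalIdeal O).toCotangent ⟨_, hmem (i c)⟩)) = 0
      simp [this]
    obtain ⟨D, hD⟩ := hlift δ hδ hδi
    refine ⟨D, fun j => ?_⟩
    rw [hD]
    change ebar (ψ ((maximalIdeal O).toCotangent ⟨_, hmem (x j : O)⟩)) = _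
    have : (⟨(x j : O) - i (ε (x j)), hmem _⟩ : maximalIdeal O) = x j := by
      have : ε (x j : O) = 0 := by rw [← RingHom.mem_ker, hε]; exact (x j).2
      exact Subtype.ext (by simp [this])
    rw [this, hx, Module.Basis.constr_basis]
    exact e.apply_symm_apply (v j)
  rw [isReduced_iff_pow_one_lt 2 (by norm_num)]
  intro a ha
  have hpow : ∀ n, a ∈ maximalIdeal O ^ n := by
    intro n
    induction n with
    | zero => simp
    | succ n ih =>
      have ih' := ih
      rw [← hgen, Ideal.mem_span_pow_iff_exists_isHomogeneous] at ih'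
      obtain ⟨P, hP, hPa⟩ := ih'
      have hP0 : MvPolynomial.map ε P = 0 := by
        apply MvPolynomial.funext
        intro v
        obtain ⟨D, hD⟩ := hder v
        have hL : ε (D^[n] a) = 0 := by
          have := iterate_mul ε hε D (n + n) n n rfl ih ih
          rw [show a * a = 0 by rw [← pow_two]; exact ha, ← zero_mul (0 : O),
            iterate_mul ε hε D (n + n) n n rfl (zero_mem _) (zero_mem _)] at this
          have hz : ε (D^[n] (0 : O)) = 0 := by
            have h0 : (0 : O) ∈ maximalIdeal O ^ (n + 1) := zero_mem _
            exact iterate_vanish ε hε D n h0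
          rw [hz, zero_mul, mul_zero, eq_comm, mul_eq_zero, Nat.cast_eq_zero, mul_self_eq_zero]
            at this
          exact this.resolve_left (Nat.choose_pos (by omega)).ne'
        have hterm : ∀ d ∈ P.support, ε (D^[n] (MvPolynomial.coeff d P * ∏ j, (x j : O) ^ d j)) =
            (n.factorial : k) * (ε (MvPolynomial.coeff d P) * ∏ j, v j ^ d j) := by
          intro d hd
          have hcard : d.toMultiset.card = n := by
            rw [Finsupp.card_toMultiset]
            simpa [Finsupp.weight_apply, Finsupp.sum] using hP (MvPolynomial.mem_support_iff.1 hd)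
          obtain ⟨hmem', hval⟩ := iterate_prod ε hε D (fun j => (x j : O)) (fun j => (x j).2)
            d.toMultiset
          rw [hcard, prod_map_toMultiset] at hmem' hval
          rw [iterate_mul ε hε D n 0 n (by omega) (by simp) hmem', hval, prod_map_toMultiset,
            Finset.prod_congr rfl fun j _ => by rw [hD]]
          simp
          ring
        have hev : ε (D^[n] a) = (n.factorial : k) * MvPolynomial.eval v (MvPolynomial.map ε P) := by
          rw [← hPa, MvPolynomial.eval_eq', iterate_map_sum, map_sum, Finset.sum_congr rfl hterm,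
            ← Finset.mul_sum, MvPolynomial.eval_map, MvPolynomial.eval₂_eq']
        rw [hL, eq_comm, mul_eq_zero, Nat.cast_eq_zero] at hev
        simpa using hev.resolve_left (Nat.factorial_ne_zero n)
      rw [← hPa, MvPolynomial.eval_eq']
      refine Ideal.sum_mem _ fun d hd => ?_
      rw [pow_succ']
      refine Ideal.mul_mem_mul ?_ ?_
      · have := congrArg (MvPolynomial.coeff d) hP0
        rw [MvPolynomial.coeff_map, MvPolynomial.coeff_zero, ← RingHom.mem_ker, hε] at this
        exact this
      · have hd' : ∑ j, d j = n := by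
          have := hP (MvPolynomial.mem_support_iff.1 hd)
          rw [Finsupp.weight_apply, Finsupp.sum_fintype _ _ (by simp)] at this
          simpa using this
        rw [← hd', ← Finset.prod_pow_eq_pow_sum]
        exact Ideal.prod_mem_prod fun j _ => Ideal.pow_mem_pow (x j).2 _
  have hbot := Ideal.iInf_pow_eq_bot_of_isLocalRing (maximalIdeal O)
    (IsLocalRing.maximalIdeal.isMaximal O).ne_top
  have : a ∈ ⨅ n, maximalIdeal O ^ n := Submodule.mem_iInf _ |>.2 hpow
  rw [hbot] at this
  exact this

end Groth.Agent.Cartier
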