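import Mathlib.AlgebraicGeometry.Morphisms.Flat
import Mathlib.AlgebraicGeometry.Morphisms.UniversallyOpen
import Mathlib.CategoryTheory.Monoidal.Cartesian.Over
import Mathlib.CategoryTheory.Monoidal.Cartesian.Grp

/-!
# Translation by a point as a projection
-/

universe u
open CategoryTheory CategoryTheory.Limits MonoidalCategory CartesianMonoidalCategory MonObj GrpObj
open AlgebraicGeometry

set_option backward.isDefEq.respectTransparency false

namespace Groth.Agent.GrpBasic

variable {S : Scheme.{u}} (G : Over S) [GrpObj G]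

/-- the shear of a point -/
noncomputable def pointShear {T : Over S} (ψ : T ⟶ G) : T ⊗ G ≅ T ⊗ G where
  hom := lift (fst T G) ((fst T G ≫ ψ) * snd T G)
  inv := lift (fst T G) ((fst T G ≫ ψ)⁻¹ * snd T G)
  hom_inv_id := by
    apply CartesianMonoidalCategory.hom_ext
    · simp
    · simp only [Category.assoc, lift_snd, MonObj.comp_mul, GrpObj.comp_inv, lift_fst_assoc,
        Category.id_comp, inv_mul_cancel_left]
  inv_hom_id := by
    apply CartesianMonoidalCategory.hom_ext
    · simp
    · simp only [Category.assoc, lift_snd, MonObj.comp_mul, lift_fst_assoc,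
        Category.id_comp, mul_inv_cancel_left]

lemma whisker_mul_eq {T : Over S} (ψ : T ⟶ G) :
    ψ ▷ G ≫ μ[G] = (pointShear G ψ).hom ≫ snd T G := by
  simp only [pointShear, lift_snd, Hom.mul_def]
  congr 1

theorem flat_translate_mul :
    (∀ (T : Over S) (ψ : T ⟶ G), Flat T.hom → Flat (ψ ▷ G ≫ μ[G]).left) ∧
      (Flat G.hom → Flat μ[G].left) := by
  have h : ∀ (T : Over S) (ψ : T ⟶ G), Flat T.hom → Flat (ψ ▷ G ≫ μ[G]).left := by
    intro T ψ hT
    rw [whisker_mul_eq, Over.comp_left]
    have : IsIso (pointShear G ψ).hom.left :=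
      inferInstanceAs (IsIso ((Over.forget S).map (pointShear G ψ).hom))
    have : Flat (snd T G).left := by
      rw [Over.snd_left]
      exact inferInstanceAs (Flat (pullback.snd T.hom G.hom))
    infer_instance
  refine ⟨h, fun hG => ?_⟩
  simpa using h G (𝟙 G) hG

theorem isOpen_range_translate (K : Type u) [Field K] (G : Over (Spec (CommRingCat.of K))) [GrpObj G]
    (W : G.left.Opens) (T : Scheme.{u}) (f : T ⟶ G.left) :
    IsOpen (Set.range ⇑(((Over.homMk f rfl : Over.mk (f ≫ G.hom) ⟶ G) ⊗ₘ
      (Over.homMk W.ι rfl : Over.mk (W.ι ≫ G.hom) ⟶ G)) ≫ μ[G]).left) := by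
  let T' : Over (Spec (CommRingCat.of K)) := Over.mk (f ≫ G.hom)
  let ψ : T' ⟶ G := Over.homMk f rfl
  let w : Over.mk (W.ι ≫ G.hom) ⟶ G := Over.homMk W.ι rfl
  have e : (ψ ⊗ₘ w) ≫ μ[G] = T' ◁ w ≫ (pointShear G ψ).hom ≫ snd T' G := by
    rw [← whisker_mul_eq, tensorHom_def', Category.assoc]
  rw [show (ψ ⊗ₘ w) ≫ μ[G] = _ from e]
  simp only [Over.comp_left]
  have : IsIso (pointShear G ψ).hom.left :=
    inferInstanceAs (IsIso ((Over.forget _).map (pointShear G ψ).hom))
  have : UniversallyOpen (snd T' G).left := by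
    rw [Over.snd_left]
    have : UniversallyOpen T'.hom := inferInstanceAs (UniversallyOpen (T'.hom : T'.left ⟶ Spec (CommRingCat.of K)))
    exact inferInstanceAs (UniversallyOpen (pullback.snd T'.hom G.hom))
  have : IsOpenImmersion (T' ◁ w).left := by
    have : IsOpenImmersion w.left := inferInstanceAs (IsOpenImmersion W.ι)
    rw [Over.whiskerLeft_left]
    infer_instance
  exact (((T' ◁ w).left ≫ (pointShear G ψ).hom.left ≫ (snd T' G).left).isOpenMap).isOpen_range

end Groth.Agent.GrpBasic
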